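import Groth.Agent.L06.DivModel.Lifts
import Groth.Agent.L22.SchemeDim
import Groth.Agent.L22.FibreDim
import Groth.Agent.L18.ExtendCodimOne
import Groth.Agent.L06.ImmImage
import Groth.Agent.L13.Nagata.Affine
import Groth.Prelude.Def_Pi1
import Mathlib.AlgebraicGeometry.Birational.Birational

/-!
# A birational model on which the image of a divisor is small
-/

set_option autoImplicit false
set_option linter.style.haveILetI false
set_option linter.unusedSectionVars false
set_option maxSynthPendingDepth 3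
set_option backward.isDefEq.respectTransparency.types false

universe u

open CategoryTheory CategoryTheory.Limits AlgebraicGeometry TopologicalSpace

noncomputable section

namespace Groth.L06.DivModel

attribute [local instance] Curv2.stalkAlgebra Curv2.resAlgebra

section dim

variable (k : Type u) [Field k] (Z : Scheme.{u}) [Z.Over (Spec (CommRingCat.of k))]
  [LocallyOfFiniteType (Z ↘ Spec (CommRingCat.of k))] [IsIntegral Z]

/-- At every point of a variety the two dimensions add up. -/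
theorem dim_stalk_add (z : Z) : ∃ a b d : ℕ, Algebra.trdeg k (Z.residueField z) = a ∧
    ringKrullDim (Z.presheaf.stalk z) = (b : WithBot ℕ∞) ∧ topologicalKrullDim Z = (d : WithBot ℕ∞) ∧
    a + b = d := by
  obtain ⟨a, b, ha, hb, hab⟩ := Groth.L22.SchemeDim.exists_localDim k Z z
  obtain ⟨d, hd, -, hU⟩ := Groth.L22.SchemeDim.exists_dim_eq_trdeg k Z
  refine ⟨a, b, d, ha, hb, hd, ?_⟩
  have hloc : FlatMor.localDim Z z = (d : WithBot ℕ∞) := by
    refine le_antisymm ?_ ?_
    · exact (iInf_le _ (⟨⊤, trivial⟩ : {U : Opens Z // z ∈ U})).trans (hU ⊤ ⟨z, trivial⟩).le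
    · exact le_iInf fun U => (hU U.1 ⟨z, U.2⟩).ge
  exact_mod_cast hab.symm.trans hloc

/-- The function field has transcendence degree the dimension. -/
theorem trdeg_functionField : ∃ d : ℕ, topologicalKrullDim Z = (d : WithBot ℕ∞) ∧
    Algebra.trdeg k (Z.presheaf.stalk (genericPoint Z)) = d := by
  obtain ⟨d, hd, htr, -⟩ := Groth.L22.SchemeDim.exists_dim_eq_trdeg k Z
  refine ⟨d, hd, ?_⟩
  let g : Z.presheaf.stalk (genericPoint Z) →ₐ[k] Z.residueField (genericPoint Z) :=
    { (Z.residue (genericPoint Z)).hom with commutes' := fun _ => rfl }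
  have hinj : Function.Injective g := by
    letI : Field (Z.presheaf.stalk (genericPoint Z)) := (inferInstance : Field Z.functionField)
    exact g.toRingHom.injective
  exact (AlgEquiv.ofBijective g ⟨hinj, Z.residue_surjective _⟩).trdeg_eq.trans htr

/-- The structure map on a local ring. -/
theorem SpecMap_stalkMap (z : Z) :
    Spec.map (CommRingCat.ofHom (Curv2.stalkMap k Z z)) = Z.fromSpecStalk z ≫ (Z ↘ Spec (CommRingCat.of k)) := by
  have e : CommRingCat.ofHom (Curv2.stalkMap k Z z) =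
      (Scheme.ΓSpecIso (CommRingCat.of k)).inv ≫ (Z ↘ Spec (CommRingCat.of k)).appTop ≫
        Z.presheaf.germ ⊤ z trivial := rfl
  have hq : (Z ↘ Spec (CommRingCat.of k)) = Z.toSpecΓ ≫
      Spec.map ((Scheme.ΓSpecIso (CommRingCat.of k)).inv ≫
        (Z ↘ Spec (CommRingCat.of k)).appTop) := by
    rw [Spec.map_comp, ← Scheme.toSpecΓ_naturality_assoc, ← SpecMap_ΓSpecIso_hom, ← Spec.map_comp]
    simp
  rw [e]
  conv_rhs => rw [hq]
  rw [Scheme.fromSpecStalk_toSpecΓ_assoc, ← Spec.map_comp, Category.assoc]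

/-- The structure map on the sections over an open. -/
theorem toSpecΓ_sectHom (U : Z.Opens) :
    U.toSpecΓ ≫ Spec.map (CommRingCat.ofHom (Groth.L22.SchemeDim.sectHom k Z U)) =
      U.ι ≫ (Z ↘ Spec (CommRingCat.of k)) := by
  have hq : (Z ↘ Spec (CommRingCat.of k)) = Z.toSpecΓ ≫
      Spec.map ((Scheme.ΓSpecIso (CommRingCat.of k)).inv ≫
        (Z ↘ Spec (CommRingCat.of k)).appTop) := by
    rw [Spec.map_comp, ← Scheme.toSpecΓ_naturality_assoc, ← SpecMap_ΓSpecIso_hom, ← Spec.map_comp]
    simp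
  have e : CommRingCat.ofHom (Groth.L22.SchemeDim.sectHom k Z U) =
      ((Scheme.ΓSpecIso (CommRingCat.of k)).inv ≫ (Z ↘ Spec (CommRingCat.of k)).appTop) ≫
        Z.presheaf.map (homOfLE (le_top : U ≤ ⊤)).op := rfl
  rw [e, Spec.map_comp, Scheme.Opens.toSpecΓ_SpecMap_presheaf_map_top_assoc, ← hq]

end dim

/-- A point with values in a ring and a prescribed image of the closed point. -/
theorem exists_map_of_point {X : Scheme.{u}} {R : CommRingCat.{u}} [IsLocalRing R] (f : Spec R ⟶ X) (x : X)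
    (hx : f (IsLocalRing.closedPoint R) = x) :
    ∃ ψ : X.presheaf.stalk x ⟶ R, Spec.map ψ ≫ X.fromSpecStalk x = f := by
  subst hx
  exact ⟨_, Scheme.Spec_stalkClosedPointTo_fromSpecStalk f⟩

variable {k : Type u} [Field k]

/-- An element coordinate of an affine open comes from the local ring at the image. -/
theorem exists_stalk_preimage {Y P : Scheme.{u}} {κ : CommRingCat.{u}} [IsLocalRing κ] {R : CommRingCat.{u}}
    (r : Spec κ ⟶ Y) (π : Y ⟶ P) (j : Spec R ⟶ P) [IsOpenImmersion j] (φ : R ⟶ κ)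
    (h : r ≫ π = Spec.map φ ≫ j) (x : R) :
    ∃ e : Y.presheaf.stalk (r (IsLocalRing.closedPoint κ)), Scheme.stalkClosedPointTo r e = φ x := by
  have h1 : φ x ∈ Set.range (Scheme.stalkClosedPointTo (Spec.map φ ≫ j)) := by
    obtain ⟨y, hy⟩ := (ConcreteCategory.bijective_of_isIso (j.stalkMap (Spec.map φ (IsLocalRing.closedPoint κ)))).2
      ((Spec R).presheaf.germ ⊤ _ trivial ((Scheme.ΓSpecIso R).inv x))
    refine ⟨y, ?_⟩
    rw [Scheme.stalkClosedPointTo_comp]
    show Scheme.stalkClosedPointTo (Spec.map φ) (j.stalkMap _ y) = φ x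
    erw [hy, ← CommRingCat.comp_apply, Scheme.germ_stalkClosedPointTo_Spec, CommRingCat.comp_apply,
      ← CommRingCat.comp_apply (Scheme.ΓSpecIso R).inv, Iso.inv_hom_id]
    rfl
  rw [← h, Scheme.stalkClosedPointTo_comp] at h1
  obtain ⟨y, hy⟩ := h1
  exact ⟨_, hy⟩

/-- The birational model. -/
theorem exists_model (X Y : Over (Spec (CommRingCat.of k))) [LocallyOfFiniteType X.hom] [IsIntegral X.left]
    (hXn : Pi1.IsNormalScheme X.left) [IsProper Y.hom] [IsIntegral Y.left]
    (ξ : ↥X.left) (hξ : ringKrullDim ↑(X.left.presheaf.stalk ξ) = 1)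
    (f : X.left.PartialMap Y.left) (hf : f.hom ≫ Y.hom = f.domain.ι ≫ X.hom) [IsDominant f.hom] :
    ∃ (Y' : Over (Spec (CommRingCat.of k))) (_ : IsProper Y'.hom) (_ : IsIntegral Y'.left) (φ : Y' ⟶ Y)
      (P : Y'.left.PartialIso Y.left) (_ : P.iso.hom ≫ P.target.ι = P.source.ι ≫ φ.left)
      (g : X.left.PartialMap Y'.left) (_ : g.hom ≫ Y'.hom = g.domain.ι ≫ X.hom)
      (_ : (g.compHom φ.left).toRationalMap = f.toRationalMap) (hξg : ξ ∈ g.domain),
      ringKrullDim ↑(Y'.left.presheaf.stalk (g.hom.base ⟨ξ, hξg⟩)) ≤ 1 := by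
  classical
  letI oX : X.left.Over (Spec (CommRingCat.of k)) := ⟨X.hom⟩
  letI oY : Y.left.Over (Spec (CommRingCat.of k)) := ⟨Y.hom⟩
  haveI : LocallyOfFiniteType (X.left ↘ Spec (CommRingCat.of k)) := ‹LocallyOfFiniteType X.hom›
  haveI : IsProper (Y.left ↘ Spec (CommRingCat.of k)) := ‹IsProper Y.hom›
  haveI : IsLocallyNoetherian X.left := LocallyOfFiniteType.isLocallyNoetherian X.hom
  haveI : IsLocallyNoetherian Y.left := LocallyOfFiniteType.isLocallyNoetherian Y.hom
  haveI : CompactSpace Y.left := QuasiCompact.compactSpace_of_compactSpace Y.hom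
  haveI : IsNoetherian Y.left := ⟨⟩
  haveI := (hXn ξ).1
  haveI := (hXn ξ).2
  haveI hval : ValuationRing (X.left.presheaf.stalk ξ) := Groth.L18.Codim1.valuationRing_of_normal _ hξ.le
  -- generic points
  let ηX := genericPoint X.left
  let ηY := genericPoint Y.left
  obtain ⟨z₀, hz₀⟩ := f.dense_domain.nonempty
  have hηU : ηX ∈ f.domain := (genericPoint_specializes z₀).mem_open f.domain.2 hz₀
  have hfη : f.hom ⟨ηX, hηU⟩ = ηY := by
    have hgen : IsGenericPoint (⟨ηX, hηU⟩ : f.domain.toScheme) Set.univ := by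
      rw [isGenericPoint_iff_specializes]
      exact fun y => iff_of_true (f.domain.ι.isEmbedding.isInducing.specializes_iff.1
        (genericPoint_specializes (y : X.left))) trivial
    have himage := hgen.image f.hom.continuous
    rw [Set.image_univ] at himage
    erw [f.hom.denseRange.closure_eq] at himage
    exact himage.eq (genericPoint_spec Y.left)
  -- the map of function fields
  obtain ⟨ψ, hψ⟩ := exists_map_of_point (f.fromSpecStalkOfMem hηU) ηY (by
    rw [← hfη]
    show f.hom (f.domain.fromSpecStalkOfMem ηX hηU (IsLocalRing.closedPoint _)) = _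
    congr 1
    apply Subtype.ext
    show (f.domain.fromSpecStalkOfMem ηX hηU ≫ f.domain.ι) (IsLocalRing.closedPoint _) = ηX
    rw [Scheme.Opens.fromSpecStalkOfMem_ι, Scheme.fromSpecStalk_closedPoint])
  have hψk : CommRingCat.ofHom (Curv2.stalkMap k Y.left ηY) ≫ ψ =
      CommRingCat.ofHom (Curv2.stalkMap k X.left ηX) := by
    apply Spec.map_injective
    rw [Spec.map_comp, SpecMap_stalkMap, SpecMap_stalkMap, ← Category.assoc, hψ]
    show (f.domain.fromSpecStalkOfMem ηX hηU ≫ f.hom) ≫ Y.hom = _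
    rw [Category.assoc, hf, Scheme.Opens.fromSpecStalkOfMem_ι_assoc]
    rfl
  -- algebra of the valuation
  let O := X.left.presheaf.stalk ξ
  let K := Y.left.functionField
  let L := X.left.functionField
  letI : Algebra k K := (Curv2.stalkMap k Y.left ηY).toAlgebra
  letI : Algebra k L := (Curv2.stalkMap k X.left ηX).toAlgebra
  letI : Algebra K L := ψ.hom.toAlgebra
  haveI : IsScalarTower k K L := IsScalarTower.of_algebraMap_eq fun c =>
    (RingHom.congr_fun (congrArg CommRingCat.Hom.hom hψk) c).symm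
  haveI : IsScalarTower k O L := IsScalarTower.of_algebraMap_eq fun c =>
    (X.left.presheaf.germ_stalkSpecializes_apply (x := ηX) (y := ξ) (U := ⊤) trivial
      (genericPoint_specializes ξ) _).symm
  obtain ⟨n, hnX, hnL⟩ := trdeg_functionField k X.left
  obtain ⟨d, hdY, hdK⟩ := trdeg_functionField k Y.left
  obtain ⟨c, b₁, n', hc, hb₁, hn', hcn⟩ := dim_stalk_add k X.left ξ
  obtain rfl : n' = n := by exact_mod_cast hn'.symm.trans hnX
  obtain rfl : b₁ = 1 := by exact_mod_cast hb₁.symm.trans hξ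
  let eκ : IsLocalRing.ResidueField O ≃ₐ[k] X.left.residueField ξ :=
    AlgEquiv.ofRingEquiv (R := k) (f := RingEquiv.refl (X.left.residueField ξ)) fun _ => rfl
  have hcO : Algebra.trdeg k (IsLocalRing.ResidueField O) = c := eκ.trdeg_eq.trans hc
  obtain ⟨m, u, b, hbu, hind, hle⟩ := exists_lifts (k := k) (K := K) (L := L) (O := O) hnL hdK hcO
  -- an open of definition
  choose Vi hVi ai hai using fun i => Y.left.presheaf.exists_germ_eq (x := ηY) (u i)
  let V : Y.left.Opens := ⟨⋂ i, (Vi i : Set Y.left), isOpen_iInter_of_finite fun i => (Vi i).2⟩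
  have hηV : ηY ∈ V := Set.mem_iInter.2 hVi
  let a : Fin m → Γ(Y.left, V) := fun i => Y.left.presheaf.map (homOfLE (show V ≤ Vi i from Set.iInter_subset _ i)).op (ai i)
  have ha : ∀ i, Y.left.presheaf.germ V ηY hηV (a i) = u i := fun i => by
    rw [TopCat.Presheaf.germ_res_apply]; exact hai i
  -- the affine space and a compactification
  let R := CommRingCat.of (MvPolynomial (Fin m) k)
  let gA : Spec R ⟶ Spec (CommRingCat.of k) := Spec.map (CommRingCat.ofHom MvPolynomial.C)
  haveI : LocallyOfFiniteType gA := (HasRingHomProperty.Spec_iff (P := @LocallyOfFiniteType)).2 (by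
    show (algebraMap k (MvPolynomial (Fin m) k)).FiniteType
    exact RingHom.finiteType_algebraMap.2 inferInstance)
  obtain ⟨P, j, p, hj, -, hp, hjp⟩ := Groth.L13.Nagata.exists_compactification_of_isAffine gA
  let evV : R ⟶ Γ(Y.left, V) :=
    CommRingCat.ofHom (MvPolynomial.eval₂Hom (Groth.L22.SchemeDim.sectHom k Y.left V) a)
  have hevV : V.toSpecΓ ≫ Spec.map evV ≫ gA = V.ι ≫ Y.hom := by
    rw [← Spec.map_comp, show CommRingCat.ofHom (MvPolynomial.C (σ := Fin m) (R := k)) ≫ evV =
      CommRingCat.ofHom (Groth.L22.SchemeDim.sectHom k Y.left V) from by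
        ext x; exact MvPolynomial.eval₂Hom_C _ _ x]
    exact toSpecΓ_sectHom k Y.left V
  let σ : V.toScheme ⟶ pullback Y.hom p :=
    pullback.lift V.ι (V.toSpecΓ ≫ Spec.map evV ≫ j) (by simp only [Category.assoc, hjp, hevV])
  haveI : QuasiCompact σ := by
    haveI : QuasiCompact (σ ≫ pullback.fst Y.hom p) := by rw [pullback.lift_fst]; infer_instance
    exact QuasiCompact.of_comp σ (pullback.fst Y.hom p)
  haveI : Nonempty V.toScheme := ⟨⟨ηY, hηV⟩⟩
  haveI : IsIntegral V.toScheme := isIntegral_of_isOpenImmersion V.ι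
  haveI : IsReduced σ.image := Groth.L06.ImmImage.isReduced_image σ
  have hdense : DenseRange σ.toImage := Groth.L06.ImmImage.denseRange_toImage_of_reduced σ
  haveI : IrreducibleSpace σ.image := irreducibleSpace_def _ |>.2 (by
    show IsIrreducible (Set.univ : Set σ.image)
    rw [← hdense.closure_range, ← Set.image_univ]
    exact (IrreducibleSpace.isIrreducible_univ V.toScheme).image _ σ.toImage.continuous.continuousOn |>.closure)
  haveI : IsIntegral σ.image := isIntegral_of_irreducibleSpace_of_isReduced _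
  let q : σ.image ⟶ Y.left := σ.imageι ≫ pullback.fst Y.hom p
  let sY' : σ.image ⟶ Spec (CommRingCat.of k) := q ≫ Y.hom
  haveI : IsProper q := inferInstanceAs (IsProper (σ.imageι ≫ pullback.fst Y.hom p))
  haveI hproper : IsProper sY' := inferInstanceAs (IsProper (q ≫ Y.hom))
  letI oY' : σ.image.Over (Spec (CommRingCat.of k)) := ⟨sY'⟩
  haveI : LocallyOfFiniteType (σ.image ↘ Spec (CommRingCat.of k)) := inferInstanceAs (LocallyOfFiniteType sY')
  have htq : σ.toImage ≫ q = V.ι := by
    rw [Scheme.Hom.toImage_imageι_assoc, pullback.lift_fst]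
  -- birationality
  let W : σ.image.Opens := q ⁻¹ᵁ V
  have hrange : Set.range σ.toImage ⊆ Set.range W.ι := by
    rintro _ ⟨v, rfl⟩
    rw [Scheme.Opens.range_ι]
    show (σ.toImage ≫ q) v ∈ V
    rw [htq]
    exact v.2
  let s : V.toScheme ⟶ W.toScheme := IsOpenImmersion.lift W.ι σ.toImage hrange
  have hsW : s ≫ W.ι = σ.toImage := IsOpenImmersion.lift_fac _ _ _
  have hsq : s ≫ (q ∣_ V) = 𝟙 _ := by
    rw [← cancel_mono V.ι, Category.assoc, morphismRestrict_ι, ← Category.assoc, hsW, htq, Category.id_comp]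
  haveI : IsSeparated (q ∣_ V) := inferInstance
  haveI : IsClosedImmersion (s ≫ (q ∣_ V)) := by rw [hsq]; infer_instance
  haveI : IsClosedImmersion s := IsClosedImmersion.of_comp s (q ∣_ V)
  haveI : Surjective s := ⟨fun w => by
    have hw : w ∈ closure (Set.range s) := by
      rw [W.ι.isOpenEmbedding.isEmbedding.closure_eq_preimage_closure_image, ← Set.range_comp,
        ← TopCat.coe_comp, ← Scheme.Hom.comp_base, hsW]
      exact hdense _
    rwa [s.isClosedEmbedding.isClosed_range.closure_eq] at hw⟩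
  haveI : IsIso s := isIso_of_isClosedImmersion_of_surjective s
  haveI : IsIso (q ∣_ V) := ⟨s, by rw [← cancel_epi s, reassoc_of% hsq, Category.comp_id], hsq⟩
  have hWne : (W : Set σ.image).Nonempty := ⟨_, hrange ⟨⟨ηY, hηV⟩, rfl⟩ |>.choose.2⟩
  let PI : σ.image.PartialIso Y.left :=
    ⟨W, W.2.dense hWne, V, V.2.dense ⟨ηY, hηV⟩, asIso (q ∣_ V)⟩
  -- the same dimension
  have hdimY' : topologicalKrullDim σ.image = (d : WithBot ℕ∞) := by
    obtain ⟨e, he, -, heU⟩ := Groth.L22.SchemeDim.exists_dim_eq_trdeg k σ.image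
    obtain ⟨e', he', -, heU'⟩ := Groth.L22.SchemeDim.exists_dim_eq_trdeg k Y.left
    rw [he, ← heU W hWne, ← hdY, he', ← heU' V ⟨ηY, hηV⟩]
    exact ((asIso (q ∣_ V)).hom.homeomorph).isHomeomorph.topologicalKrullDim_eq
  -- the rational map on an open
  let W₀ : f.domain.toScheme.Opens := f.hom ⁻¹ᵁ V
  let V₀ : X.left.Opens := f.domain.ι ''ᵁ W₀
  have hηV₀ : ηX ∈ V₀ := ⟨⟨ηX, hηU⟩, by show f.hom _ ∈ V; rw [hfη]; exact hηV, rfl⟩
  have hV₀le : V₀ ≤ f.domain := f.domain.ι_image_le W₀
  have hV₀d : Dense (V₀ : Set X.left) := V₀.2.dense ⟨ηX, hηV₀⟩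
  let l₀ : V₀.toScheme ⟶ V.toScheme := IsOpenImmersion.lift V.ι (X.left.homOfLE hV₀le ≫ f.hom) (by
    rintro _ ⟨⟨x, y, hy, rfl⟩, rfl⟩
    rw [Scheme.Opens.range_ι]
    show f.hom (X.left.homOfLE hV₀le _) ∈ V
    rw [show X.left.homOfLE hV₀le _ = y from f.domain.ι.isEmbedding.injective (by
      rw [← Scheme.Hom.comp_apply, Scheme.homOfLE_ι]; rfl)]
    exact hy)
  have hl₀ : l₀ ≫ V.ι = X.left.homOfLE hV₀le ≫ f.hom := IsOpenImmersion.lift_fac _ _ _
  let g₀ : V₀.toScheme ⟶ σ.image := l₀ ≫ σ.toImage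
  have hg₀q : g₀ ≫ q = X.left.homOfLE hV₀le ≫ f.hom := by rw [Category.assoc, htq, hl₀]
  have hg₀ : g₀ ≫ sY' = V₀.ι ≫ X.hom := by
    show g₀ ≫ q ≫ Y.hom = _
    rw [reassoc_of% hg₀q, hf, ← Category.assoc, Scheme.homOfLE_ι]
  obtain ⟨U', hVU, g', hg', hres, hmem⟩ := Groth.L18.Codim1.exists_extension_proper sY' X.hom V₀ hV₀d g₀ hg₀
    {ξ} (fun y hy => by obtain rfl : y = ξ := hy; exact ⟨inferInstance, hval⟩)
  have hξU : ξ ∈ U' := hmem ξ rfl
  let g : X.left.PartialMap σ.image := ⟨U', hV₀d.mono hVU, g'⟩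
  have hgf : (g.compHom q).toRationalMap = f.toRationalMap := by
    rw [Scheme.PartialMap.toRationalMap_eq_iff]
    refine ⟨V₀, hV₀d, hVU, hV₀le, ?_⟩
    show X.left.homOfLE hVU ≫ g' ≫ q = X.left.homOfLE hV₀le ≫ f.hom
    rw [reassoc_of% hres, hg₀q]
  refine ⟨Over.mk sY', hproper, ‹_›, Over.homMk q rfl, PI, morphismRestrict_ι q V, g, hg', hgf, hξU, ?_⟩
  -- the coordinates at the divisor
  let evO : R ⟶ O := CommRingCat.ofHom (MvPolynomial.eval₂Hom (Curv2.stalkMap k X.left ξ) b)
  let π : σ.image ⟶ P := σ.imageι ≫ pullback.snd Y.hom p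
  have hπp : π ≫ p = sY' := by
    show (σ.imageι ≫ pullback.snd Y.hom p) ≫ p = (σ.imageι ≫ pullback.fst Y.hom p) ≫ Y.hom
    rw [Category.assoc, Category.assoc, pullback.condition]
  let ιL := Spec.map (CommRingCat.ofHom (algebraMap O L))
  haveI : IsDominant ιL :=
    ⟨(PrimeSpectrum.denseRange_comap_iff_ker_le_nilRadical _).2 (by
      rw [CommRingCat.hom_ofHom, (RingHom.injective_iff_ker_eq_bot _).1 (IsFractionRing.injective O L)]; exact bot_le)⟩
  have hext : U'.fromSpecStalkOfMem ξ hξU ≫ g' ≫ π = Spec.map evO ≫ j := by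
    haveI : IsReduced (Spec O) := inferInstance
    refine ext_of_isDominant_of_isSeparated p ?_ ιL ?_
    · rw [Category.assoc, Category.assoc, hπp, hg', Scheme.Opens.fromSpecStalkOfMem_ι_assoc, Category.assoc, hjp,
        ← Spec.map_comp, show CommRingCat.ofHom (MvPolynomial.C (σ := Fin m) (R := k)) ≫ evO =
          CommRingCat.ofHom (Curv2.stalkMap k X.left ξ) from by ext x; exact MvPolynomial.eval₂Hom_C _ _ x]
      exact (SpecMap_stalkMap k X.left ξ).symm
    · have h1 : ιL ≫ U'.fromSpecStalkOfMem ξ hξU = V₀.fromSpecStalkOfMem ηX hηV₀ ≫ X.left.homOfLE hVU := by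
        rw [← cancel_mono U'.ι, Category.assoc, Category.assoc, Scheme.Opens.fromSpecStalkOfMem_ι,
          Scheme.homOfLE_ι, Scheme.Opens.fromSpecStalkOfMem_ι]
        exact Scheme.SpecMap_stalkSpecializes_fromSpecStalk (genericPoint_specializes ξ)
      have h2 : V₀.fromSpecStalkOfMem ηX hηV₀ ≫ l₀ = Spec.map ψ ≫ V.fromSpecStalkOfMem ηY hηV := by
        rw [← cancel_mono V.ι, Category.assoc, hl₀, Category.assoc, Scheme.Opens.fromSpecStalkOfMem_ι, hψ,
          ← Category.assoc]
        congr 1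
        rw [← cancel_mono f.domain.ι, Category.assoc, Scheme.homOfLE_ι, Scheme.Opens.fromSpecStalkOfMem_ι,
          Scheme.Opens.fromSpecStalkOfMem_ι]
      have h3 : evV ≫ Y.left.presheaf.germ V ηY hηV ≫ ψ = evO ≫ CommRingCat.ofHom (algebraMap O L) := by
        refine CommRingCat.hom_ext (MvPolynomial.ringHom_ext (fun x => ?_) fun i => ?_)
        · show ψ (Y.left.presheaf.germ V ηY hηV (MvPolynomial.eval₂Hom _ a (MvPolynomial.C x))) =
            algebraMap O L (MvPolynomial.eval₂Hom _ b (MvPolynomial.C x))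
          rw [MvPolynomial.eval₂Hom_C, MvPolynomial.eval₂Hom_C]
          show ψ (Y.left.presheaf.germ V ηY hηV (Y.left.presheaf.map _ _)) = _
          rw [TopCat.Presheaf.germ_res_apply]
          exact (RingHom.congr_fun (congrArg CommRingCat.Hom.hom hψk) x).trans
            (IsScalarTower.algebraMap_apply k O L x)
        · show ψ (Y.left.presheaf.germ V ηY hηV (MvPolynomial.eval₂Hom _ a (MvPolynomial.X i))) =
            algebraMap O L (MvPolynomial.eval₂Hom _ b (MvPolynomial.X i))
          rw [MvPolynomial.eval₂Hom_X', MvPolynomial.eval₂Hom_X', ha i, hbu i]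
          rfl
      rw [← Category.assoc, h1, Category.assoc, reassoc_of% hres]
      show V₀.fromSpecStalkOfMem ηX hηV₀ ≫ (l₀ ≫ σ.toImage) ≫ π = _
      rw [Category.assoc, reassoc_of% h2, Scheme.Hom.toImage_imageι_assoc, pullback.lift_snd,
        Scheme.Opens.fromSpecStalkOfMem_toSpecΓ_assoc, ← Category.assoc ιL, ← Spec.map_comp,
        ← Spec.map_comp_assoc, ← Spec.map_comp_assoc, h3]
      rfl
  -- the residue field at the image
  let r : Spec (X.left.residueField ξ) ⟶ σ.image :=
    Spec.map (X.left.residue ξ) ≫ U'.fromSpecStalkOfMem ξ hξU ≫ g'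
  have hr : r (IsLocalRing.closedPoint _) = g' ⟨ξ, hξU⟩ := by
    show g' ((Spec.map (X.left.residue ξ) ≫ U'.fromSpecStalkOfMem ξ hξU) (IsLocalRing.closedPoint _)) = _
    congr 1
    apply Subtype.ext
    show (Spec.map (X.left.residue ξ) ≫ U'.fromSpecStalkOfMem ξ hξU ≫ U'.ι) (IsLocalRing.closedPoint _) = ξ
    rw [Scheme.Opens.fromSpecStalkOfMem_ι]
    exact X.left.fromSpecResidueField_apply ξ _
  have hrs : r ≫ sY' = Spec.map (CommRingCat.ofHom (Curv2.resMap k X.left ξ)) := by
    rw [Groth.L22.FibreDim.SpecMap_resMap]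
    show (_ ≫ _ ≫ g') ≫ sY' = _
    rw [Category.assoc, Category.assoc, hg', Scheme.Opens.fromSpecStalkOfMem_ι_assoc]
    rfl
  have hrπ : r ≫ π = Spec.map (evO ≫ X.left.residue ξ) ≫ j := by
    show (_ ≫ _ ≫ g') ≫ π = _
    rw [Category.assoc, Category.assoc, hext, Spec.map_comp_assoc]
  choose e he using fun i => exists_stalk_preimage r π j (evO ≫ X.left.residue ξ) hrπ (MvPolynomial.X i)
  let y := r (IsLocalRing.closedPoint (X.left.residueField ξ))
  haveI hloc : IsLocalHom (Scheme.stalkClosedPointTo r).hom := Scheme.isLocalHom_stalkClosedPointTo r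
  let τ : σ.image.residueField y ⟶ X.left.residueField ξ :=
    CommRingCat.ofHom (@IsLocalRing.ResidueField.lift _ (X.left.residueField ξ) _ _ _ (Scheme.stalkClosedPointTo r).hom hloc)
  have hτ : σ.image.residue y ≫ τ = Scheme.stalkClosedPointTo r := CommRingCat.hom_ext (RingHom.ext fun _ => rfl)
  have hτk : CommRingCat.ofHom (Curv2.resMap k σ.image y) ≫ τ = CommRingCat.ofHom (Curv2.resMap k X.left ξ) := by
    show (CommRingCat.ofHom (Curv2.stalkMap k σ.image y) ≫ σ.image.residue y) ≫ τ = _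
    rw [Category.assoc, hτ]
    apply Spec.map_injective
    rw [Spec.map_comp, SpecMap_stalkMap, ← hrs, ← Category.assoc,
      Scheme.Spec_stalkClosedPointTo_fromSpecStalk r]
    rfl
  let τa : σ.image.residueField y →ₐ[k] X.left.residueField ξ :=
    { τ.hom with commutes' := fun x => RingHom.congr_fun (congrArg CommRingCat.Hom.hom hτk) x }
  have hv : AlgebraicIndependent k fun i => σ.image.residue y (e i) := by
    refine AlgebraicIndependent.of_comp τa ?_
    have h := hind.map' (f := eκ.toAlgHom) eκ.injective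
    convert h using 1
    funext i
    show (σ.image.residue y ≫ τ) (e i) = _
    rw [hτ, he i]
    show X.left.residue ξ (MvPolynomial.eval₂Hom _ b (MvPolynomial.X i)) = _
    rw [MvPolynomial.eval₂Hom_X']
    rfl
  obtain ⟨a', b', d', ha', hb', hd', hab⟩ := dim_stalk_add k σ.image y
  obtain rfl : d' = d := by exact_mod_cast hd'.symm.trans hdimY'
  have hma : m ≤ a' := by
    have h := hv.lift_cardinalMk_le_trdeg
    rw [ha', Cardinal.mk_fin] at h
    simpa using h
  have hb1 : ringKrullDim (σ.image.presheaf.stalk y) ≤ 1 := by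
    rw [hb']
    exact_mod_cast (show b' ≤ 1 by omega)
  show ringKrullDim (σ.image.presheaf.stalk (g' ⟨ξ, hξU⟩)) ≤ 1
  rw [← hr]
  exact hb1

end Groth.L06.DivModel
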