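import Mathlib.RingTheory.AlgebraicIndependent.TranscendenceBasis
import Mathlib.RingTheory.Valuation.ValuationRing
import Mathlib.RingTheory.LocalRing.ResidueField.Basic

/-!
# Residues of a subfield in a valuation ring

If a valuation of `L/k` has residue field of transcendence degree `c`, then a subfield `K` of transcendence
degree `d` has at least `d + c - trdeg L` elements in the valuation ring with algebraically independent residues.
-/

set_option autoImplicit false
set_option linter.style.haveILetI false
set_option linter.unusedSectionVars false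

universe u

noncomputable section

namespace Groth.L06.DivModel

open IsLocalRing MvPolynomial

variable {k K L O : Type u} [Field k] [Field K] [Field L] [CommRing O] [IsDomain O] [ValuationRing O]
  [Algebra k O] [Algebra k K] [Algebra k L] [Algebra K L] [Algebra O L] [IsFractionRing O L]
  [IsScalarTower k O L] [IsScalarTower k K L]

variable (k K L O) in
/-- The elements of the valuation ring coming from the subfield. -/
def subfieldPart : Subalgebra k O :=
  ((IsScalarTower.toAlgHom k K L).range).comap (IsScalarTower.toAlgHom k O L)

variable (k K L O) in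
/-- The residues of the elements coming from the subfield. -/
def residuePart : Subalgebra k (ResidueField O) :=
  (subfieldPart k K L O).map (IsScalarTower.toAlgHom k O (ResidueField O))

theorem mem_residuePart {x : O} (hx : x ∈ subfieldPart k K L O) :
    algebraMap O (ResidueField O) x ∈ residuePart k K L O :=
  ⟨x, hx, rfl⟩

/-- Lifts of residues which are independent over the residues of `K` are independent over `K`. -/
theorem algebraicIndependent_lift {ι : Type u} (b : ι → O)
    (hb : AlgebraicIndependent (residuePart k K L O) fun i => algebraMap O (ResidueField O) (b i)) :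
    AlgebraicIndependent K fun i => algebraMap O L (b i) := by
  classical
  rw [algebraicIndependent_iff]
  intro p hp
  by_contra hp0
  obtain ⟨s₀, hs₀, hmax⟩ := p.support.exists_max_image
    (fun s => ValuationRing.valuation O L (algebraMap K L (p.coeff s)))
    (MvPolynomial.support_nonempty.2 hp0)
  have hne : p.coeff s₀ ≠ 0 := MvPolynomial.mem_support_iff.1 hs₀
  have hneL : algebraMap K L (p.coeff s₀) ≠ 0 := (map_ne_zero _).2 hne
  have key : ∀ s, ∃ o : O, algebraMap O L o = algebraMap K L ((p.coeff s₀)⁻¹ * p.coeff s) := fun s => by
    by_cases hs : s ∈ p.support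
    · rw [← ValuationRing.mem_integer_iff, Valuation.mem_integer_iff, map_mul, map_inv₀, map_mul, map_inv₀]
      exact (inv_mul_le_iff₀ (zero_lt_iff.2 ((Valuation.ne_zero_iff _).2 hneL))).2 (by simpa using hmax s hs)
    · exact ⟨0, by rw [MvPolynomial.notMem_support_iff.1 hs, mul_zero, map_zero, map_zero]⟩
  choose o ho using key
  let Q : MvPolynomial ι O := ∑ s ∈ p.support, monomial s (o s)
  have hQ : MvPolynomial.map (algebraMap O L) Q =
      MvPolynomial.map (algebraMap K L) (MvPolynomial.C (p.coeff s₀)⁻¹ * p) := by
    generalize (p.coeff s₀)⁻¹ = γ at ho ⊢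
    conv_rhs => rw [p.as_sum, Finset.mul_sum]
    simp only [Q, map_sum, MvPolynomial.map_monomial, MvPolynomial.C_mul_monomial, ho]
  have hQ0 : aeval b Q = 0 := by
    apply IsFractionRing.injective O L
    have h1 : algebraMap O L (aeval b Q) =
        MvPolynomial.eval (fun i => algebraMap O L (b i)) (MvPolynomial.map (algebraMap O L) Q) := by
      rw [MvPolynomial.eval_map, MvPolynomial.aeval_def, MvPolynomial.eval₂_comp_left]
      rfl
    rw [h1, hQ, MvPolynomial.eval_map, ← MvPolynomial.aeval_def, map_mul, hp, mul_zero, map_zero]
  let Q' : MvPolynomial ι (residuePart k K L O) := ∑ s ∈ p.support,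
    monomial s ⟨algebraMap O (ResidueField O) (o s), mem_residuePart ⟨_, (ho s).symm⟩⟩
  have hQ' : MvPolynomial.map (algebraMap (residuePart k K L O) (ResidueField O)) Q' =
      MvPolynomial.map (algebraMap O (ResidueField O)) Q := by
    simp only [Q, Q', map_sum, MvPolynomial.map_monomial]
    rfl
  have h2 : Q' = 0 := algebraicIndependent_iff.1 hb Q' (by
    have h := congrArg (algebraMap O (ResidueField O)) hQ0
    rw [map_zero, MvPolynomial.aeval_def, MvPolynomial.eval₂_comp_left] at h
    rw [MvPolynomial.aeval_def, ← MvPolynomial.eval_map, hQ', MvPolynomial.eval_map]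
    exact h)
  have h3 := congrArg (MvPolynomial.coeff s₀) h2
  simp only [Q', MvPolynomial.coeff_sum, MvPolynomial.coeff_monomial, Finset.sum_ite_eq', hs₀, if_true,
    MvPolynomial.coeff_zero] at h3
  have h4 : o s₀ = 1 := IsFractionRing.injective O L (by
    rw [ho, inv_mul_cancel₀ hne, map_one, map_one])
  exact one_ne_zero (α := ResidueField O) (by
    have h5 := congrArg Subtype.val h3
    simpa [h4] using h5)

/-- Enough elements of `K` in the valuation ring with independent residues. -/
theorem exists_lifts {n d c : ℕ} (hn : Algebra.trdeg k L = n) (hd : Algebra.trdeg k K = d)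
    (hc : Algebra.trdeg k (ResidueField O) = c) :
    ∃ (m : ℕ) (u : Fin m → K) (b : Fin m → O), (∀ i, algebraMap O L (b i) = algebraMap K L (u i)) ∧
      AlgebraicIndependent k (fun i => algebraMap O (ResidueField O) (b i)) ∧ d + c ≤ m + n := by
  classical
  obtain ⟨s, hs⟩ := exists_isTranscendenceBasis k (residuePart k K L O)
  obtain ⟨t, ht⟩ := exists_isTranscendenceBasis (residuePart k K L O) (ResidueField O)
  have hst : Cardinal.mk s + Cardinal.mk t = (c : Cardinal) := by
    rw [hs.cardinalMk_eq_trdeg, ht.cardinalMk_eq_trdeg, ← hc]
    exact trdeg_add_eq k (residuePart k K L O)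
  obtain ⟨m, hm⟩ := Cardinal.lt_aleph0.1 ((le_self_add.trans_eq hst).trans_lt (Cardinal.natCast_lt_aleph0 (n := c)))
  obtain ⟨e⟩ := Cardinal.mk_eq_nat_iff.1 hm
  have hlift : ∀ i : Fin m, ∃ (x : O) (z : K), algebraMap O L x = algebraMap K L z ∧
      algebraMap O (ResidueField O) x = ((e.symm i).1 : ResidueField O) := fun i => by
    obtain ⟨x, ⟨z, hz⟩, hx⟩ := (e.symm i).1.2
    exact ⟨x, z, hz.symm, hx⟩
  choose b u hbu hb using hlift
  refine ⟨m, u, b, hbu, ?_, ?_⟩
  · have h := (hs.1.map' (f := (residuePart k K L O).val) Subtype.val_injective).comp e.symm e.symm.injective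
    convert h using 1
    funext i
    exact hb i
  · have hlift' : ∀ y : t, ∃ x : O, algebraMap O (ResidueField O) x = (y : ResidueField O) := fun y =>
      IsLocalRing.residue_surjective _
    choose w hw using hlift'
    have hind : AlgebraicIndependent K fun y => algebraMap O L (w y) :=
      algebraicIndependent_lift (k := k) w (by simpa only [hw] using ht.1)
    have h1 : (d : Cardinal) + Cardinal.mk t ≤ (n : Cardinal) := by
      rw [← hd, ← hn, ← trdeg_add_eq k K (A := L)]
      gcongr
      exact hind.cardinalMk_le_trdeg
    obtain ⟨r, hr⟩ := Cardinal.lt_aleph0.1 ((le_add_self.trans h1).trans_lt (Cardinal.natCast_lt_aleph0 (n := n)))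
    rw [hr] at h1 hst
    rw [hm] at hst
    have h1' : d + r ≤ n := by exact_mod_cast h1
    have h2' : m + r = c := by exact_mod_cast hst
    omega

end Groth.L06.DivModel
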